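import Mathlib
import Groth.Agent.Lib.Helper8.RegularLocal

/-!
# helper6: regularity of hypersurface localizations via the symbolic square (for S11104)
-/

set_option autoImplicit false
set_option linter.unusedSectionVars false
set_option linter.unusedVariables false
set_option linter.unusedSimpArgs false
set_option linter.style.haveILetI false
set_option maxHeartbeats 400000

universe u
open IsLocalRing

namespace Groth.Agent.Lib.Helper6.WReg

/-- A derivation maps `n²` into `n`. -/
theorem derivation_mem_of_mem_sq {T : Type*} [CommRing T] (D : Derivation ℤ T T) (n : Ideal T)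
    (t : T) (ht : t ∈ n ^ 2) : D t ∈ n := by
  rw [pow_two] at ht
  induction ht using Submodule.mul_induction_on' with
  | mem_mul_mem a ha b hb =>
    rw [Derivation.leibniz, smul_eq_mul, smul_eq_mul]
    exact n.add_mem (n.mul_mem_right _ ha) (n.mul_mem_right _ hb)
  | add x hx y hy hx' hy' =>
    rw [map_add]
    exact n.add_mem hx' hy'

theorem derivation_mem_of_mul_mem_sq {T : Type*} [CommRing T] (D : Derivation ℤ T T)
    (n : Ideal T) [n.IsPrime] (f s : T) (hf : f ∈ n) (hs : s ∉ n) (hsf : s * f ∈ n ^ 2) :
    D f ∈ n := by
  have h1 := derivation_mem_of_mem_sq D n _ hsf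
  rw [Derivation.leibniz, smul_eq_mul, smul_eq_mul] at h1
  have h2 : f * D s ∈ n := n.mul_mem_right _ hf
  have h3 : s * D f ∈ n := by
    have := n.sub_mem h1 h2
    simpa using this
  exact (Ideal.IsPrime.mem_or_mem inferInstance h3).resolve_left hs

/-- If `T_n` is regular and `f ∉ n^(2)` (symbolic square), then `(T/f)_P` is regular, where `n` is
the preimage of `P`. -/
theorem regular_quotient_atPrime' (T : Type u) [CommRing T] [IsNoetherianRing T] (f : T)
    (I : Ideal T) (hI : I = Ideal.span ({f} : Set T))
    (P : Ideal (T ⧸ I)) [P.IsPrime] (n : Ideal T) [n.IsPrime]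
    (hn : n = P.comap (Ideal.Quotient.mk I))
    (hreg : IsRegularLocalRing (Localization.AtPrime n))
    (hf : ∀ s : T, s ∉ n → s * f ∉ n ^ 2) :
    IsRegularLocalRing (Localization.AtPrime P) := by
  have hIn : I ≤ n := by
    intro t ht
    rw [hn, Ideal.mem_comap, Ideal.Quotient.eq_zero_iff_mem.2 ht]
    exact P.zero_mem
  have hfn : f ∈ n := hIn (by rw [hI]; exact Ideal.subset_span rfl)
  have hxm : algebraMap T (Localization.AtPrime n) f ∈ maximalIdeal (Localization.AtPrime n) := by
    rw [IsLocalization.AtPrime.to_map_mem_maximal_iff (Localization.AtPrime n) n]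
    exact hfn
  have hx2 : algebraMap T (Localization.AtPrime n) f ∉
      maximalIdeal (Localization.AtPrime n) ^ 2 := by
    intro hmem
    rw [← Localization.AtPrime.map_eq_maximalIdeal, ← Ideal.map_pow,
      IsLocalization.mem_map_algebraMap_iff n.primeCompl (Localization.AtPrime n)] at hmem
    obtain ⟨⟨⟨a, ha⟩, ⟨s, hs⟩⟩, heq⟩ := hmem
    simp only at heq
    rw [← map_mul] at heq
    obtain ⟨⟨s', hs'⟩, heq'⟩ :=
      (IsLocalization.eq_iff_exists n.primeCompl (Localization.AtPrime n)).1 heq
    simp only at heq'
    have hss : s' * s ∉ n := fun h =>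
      (Ideal.IsPrime.mem_or_mem inferInstance h).elim hs' hs
    apply hf (s' * s) hss
    have : s' * s * f = s' * a := by rw [← heq']; ring
    rw [this]
    exact Ideal.mul_mem_left _ _ ha
  have hmap : I.map (algebraMap T (Localization.AtPrime n)) =
      Ideal.span {algebraMap T (Localization.AtPrime n) f} := by
    rw [hI, Ideal.map_span, Set.image_singleton]
  have hsub : Algebra.algebraMapSubmonoid (T ⧸ I) n.primeCompl = P.primeCompl := by
    ext y
    obtain ⟨y, rfl⟩ := Ideal.Quotient.mk_surjective y
    simp only [Algebra.algebraMapSubmonoid, Submonoid.mem_map, Ideal.mem_primeCompl_iff]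
    constructor
    · rintro ⟨z, hz, hzy⟩
      rw [← hzy]
      intro hmem
      apply hz
      rw [hn, Ideal.mem_comap]
      exact hmem
    · intro hy
      refine ⟨y, fun h => hy ?_, rfl⟩
      rw [hn, Ideal.mem_comap] at h
      exact h
  have hloc : IsLocalization.AtPrime
      (Localization.AtPrime n ⧸ I.map (algebraMap T (Localization.AtPrime n))) P := by
    have := (inferInstance : IsLocalization (Algebra.algebraMapSubmonoid (T ⧸ I) n.primeCompl)
      (Localization.AtPrime n ⧸ I.map (algebraMap T (Localization.AtPrime n))))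
    rw [hsub] at this
    exact this
  have h3 : IsRegularLocalRing (Localization.AtPrime n ⧸
      Ideal.span {algebraMap T (Localization.AtPrime n) f}) :=
    (Groth.Agent.Helper8.RLR.quotient_singleton hxm hx2).1
  have h2 : IsRegularLocalRing
      (Localization.AtPrime n ⧸ I.map (algebraMap T (Localization.AtPrime n))) :=
    IsRegularLocalRing.of_ringEquiv (Ideal.quotEquivOfEq hmap.symm)
  exact IsRegularLocalRing.of_ringEquiv (IsLocalization.algEquiv P.primeCompl
      (Localization.AtPrime n ⧸ I.map (algebraMap T (Localization.AtPrime n)))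
      (Localization.AtPrime P)).toRingEquiv

end Groth.Agent.Lib.Helper6.WReg
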