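import Groth.Agent.Lib.Helper6.WReg.WRa

/-!
# helper6: the affine Weierstrass scheme over a DVR with `a₃,a₄,a₆ ∈ m`, `a₆ ∉ m²` is regular (S11104)
-/

set_option autoImplicit false
set_option linter.unusedSectionVars false
set_option linter.unusedVariables false
set_option linter.unusedSimpArgs false
set_option linter.style.haveILetI false
set_option warn.classDefReducibility false
set_option maxHeartbeats 400000

universe u
open Polynomial IsLocalRing

namespace Groth.Agent.Lib.Helper6.WReg

section Deriv

variable {R : Type u} [CommRing R] (W : WeierstrassCurve.Affine R)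

noncomputable def diffInst (R : Type u) [CommRing R] : Differential R[X] :=
  ⟨(Polynomial.derivative' (R := R)).restrictScalars ℤ⟩

noncomputable def dY (R : Type u) [CommRing R] : Derivation ℤ R[X][X] R[X][X] :=
  (Polynomial.derivative' (R := R[X])).restrictScalars ℤ

noncomputable def dX (R : Type u) [CommRing R] : Derivation ℤ R[X][X] R[X][X] :=
  @Differential.mapCoeffs R[X] _ (diffInst R)

theorem dY_apply (p : R[X][X]) : dY R p = derivative p := rfl

theorem dX_C (c : R[X]) : dX R (C c) = C (derivative c) :=
  @Differential.mapCoeffs_C R[X] _ (diffInst R) c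

theorem dX_Y : dX R (X : R[X][X]) = 0 :=
  @Differential.mapCoeffs_X R[X] _ (diffInst R)

theorem dY_polynomial : dY R W.polynomial = W.polynomialY := by
  rw [dY_apply, WeierstrassCurve.Affine.polynomial, WeierstrassCurve.Affine.polynomialY]
  simp only [derivative_sub, derivative_add, derivative_mul, derivative_C, derivative_X_pow,
    derivative_X, zero_mul, zero_add, mul_one, Nat.cast_ofNat, Nat.add_one_sub_one, pow_one,
    sub_zero]
  rw [show (C (2 : R) : R[X]) = 2 from map_ofNat C 2]

theorem dX_polynomial : dX R W.polynomial = W.polynomialX := by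
  rw [WeierstrassCurve.Affine.polynomial, WeierstrassCurve.Affine.polynomialX]
  simp only [map_sub, map_add, Derivation.leibniz, Derivation.leibniz_pow, dX_C, dX_Y,
    smul_zero, zero_add, add_zero, smul_eq_mul]
  simp only [derivative_sub, derivative_add, derivative_mul, derivative_C, derivative_X_pow,
    derivative_X, zero_mul, zero_add, mul_one, Nat.cast_ofNat, Nat.add_one_sub_one, pow_one,
    sub_zero, add_zero]
  simp
  ring

end Deriv

section Eval

variable {R : Type u} [CommRing R]

theorem evalEval_map_mk (n : Ideal R[X][X]) (g : R[X][X]) :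
    (g.map (mapRingHom ((Ideal.Quotient.mk n).comp (C.comp C)))).evalEval
      (Ideal.Quotient.mk n (C X)) (Ideal.Quotient.mk n X) = Ideal.Quotient.mk n g := by
  have h : ((evalEvalRingHom (Ideal.Quotient.mk n (C X)) (Ideal.Quotient.mk n X)).comp
      (mapRingHom (mapRingHom ((Ideal.Quotient.mk n).comp (C.comp C))))) =
      Ideal.Quotient.mk n := by
    apply Polynomial.ringHom_ext'
    · apply Polynomial.ringHom_ext'
      · ext r
        simp
      · simp
    · simp
  exact RingHom.congr_fun h g

/-- `s ≡ s(0,0)` modulo `(X, Y)`. -/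
theorem sub_evalEval_mem (s : R[X][X]) :
    s - C (C (s.evalEval 0 0)) ∈ Ideal.span ({C X, X} : Set R[X][X]) := by
  have h3 : s.evalEval 0 0 = (s.coeff 0).coeff 0 := by
    rw [evalEval, map_zero, ← coeff_zero_eq_eval_zero, ← coeff_zero_eq_eval_zero]
  have e1 : s - C (C ((s.coeff 0).coeff 0)) =
      divX s * X + (C (s.coeff 0) - C (C ((s.coeff 0).coeff 0))) := by
    have := divX_mul_X_add s
    linear_combination (-1 : R[X][X]) * this
  have e2 : (C (s.coeff 0) : R[X][X]) - C (C ((s.coeff 0).coeff 0)) =
      C (divX (s.coeff 0)) * C X := by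
    rw [← map_sub, ← map_mul]
    congr 1
    have := divX_mul_X_add (s.coeff 0)
    linear_combination (-1 : R[X]) * this
  have h4 : s - C (C (s.evalEval 0 0)) = divX s * X + C (divX (s.coeff 0)) * C X := by
    rw [h3, e1, e2]
  rw [h4]
  refine Ideal.add_mem _ (Ideal.mul_mem_left _ _ (Ideal.subset_span ?_))
    (Ideal.mul_mem_left _ _ (Ideal.subset_span ?_))
  · simp
  · simp

end Eval

end Groth.Agent.Lib.Helper6.WReg
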