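import Groth.Agent.Lib.Helper6.WReg.WRb

set_option autoImplicit false
set_option linter.unusedSectionVars false
set_option linter.unusedVariables false
set_option linter.unusedSimpArgs false
set_option linter.style.haveILetI false
set_option maxHeartbeats 400000

universe u
open Polynomial IsLocalRing

namespace Groth.Agent.Lib.Helper6.WReg

variable {R : Type u} [CommRing R] (W : WeierstrassCurve.Affine R)

/-- Euler-type identity for the Weierstrass polynomial. -/
theorem x_cube_identity :
    (C X : R[X][X]) ^ 3 = -(C X * W.polynomialX) - X * W.polynomialY + 2 * W.polynomial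
      + C (C W.a₄) * C X - C (C W.a₃) * X + 2 * C (C W.a₆) := by
  rw [WeierstrassCurve.Affine.polynomial, WeierstrassCurve.Affine.polynomialX,
    WeierstrassCurve.Affine.polynomialY]
  simp only [map_add, map_mul, map_pow, map_ofNat]
  ring

theorem y_sq_identity :
    (X : R[X][X]) ^ 2 = W.polynomial - C (C W.a₁) * C X * X - C (C W.a₃) * X + (C X) ^ 3
      + C (C W.a₂) * (C X) ^ 2 + C (C W.a₄) * C X + C (C W.a₆) := by
  rw [WeierstrassCurve.Affine.polynomial]
  simp only [map_add, map_mul, map_pow, map_ofNat]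
  ring

/-- If both partials lie in the prime `n ∋ W`, then `Δ ∈ n`. -/
theorem Δ_mem (n : Ideal R[X][X]) [n.IsPrime] (hf : W.polynomial ∈ n)
    (hX : W.polynomialX ∈ n) (hY : W.polynomialY ∈ n) : C (C W.Δ) ∈ n := by
  by_contra hΔ
  let φ : R →+* R[X][X] ⧸ n := (Ideal.Quotient.mk n).comp (C.comp C)
  have hΔ' : (WeierstrassCurve.map W φ).Δ ≠ (0 : R[X][X] ⧸ n) := by
    rw [WeierstrassCurve.map_Δ]
    intro h
    apply hΔ
    exact Ideal.Quotient.eq_zero_iff_mem.1 h
  have heq : (WeierstrassCurve.map W φ).toAffine.Equation (Ideal.Quotient.mk n (C X))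
      (Ideal.Quotient.mk n X) := by
    rw [WeierstrassCurve.Affine.Equation, WeierstrassCurve.Affine.map_polynomial]
    rw [evalEval_map_mk]
    exact Ideal.Quotient.eq_zero_iff_mem.2 hf
  have hns := (WeierstrassCurve.Affine.equation_iff_nonsingular_of_Δ_ne_zero hΔ').1 heq
  rcases hns.2 with h | h
  · apply h
    rw [WeierstrassCurve.Affine.map_polynomialX, evalEval_map_mk]
    exact Ideal.Quotient.eq_zero_iff_mem.2 hX
  · apply h
    rw [WeierstrassCurve.Affine.map_polynomialY, evalEval_map_mk]
    exact Ideal.Quotient.eq_zero_iff_mem.2 hY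

theorem main (R : Type u) [CommRing R] [IsDomain R] [IsDiscreteValuationRing R]
    (W : WeierstrassCurve.Affine R) (hΔ : W.Δ ≠ 0)
    (h3 : W.a₃ ∈ maximalIdeal R) (h4 : W.a₄ ∈ maximalIdeal R)
    (h6 : W.a₆ ∈ maximalIdeal R) (h6' : W.a₆ ∉ maximalIdeal R ^ 2)
    (P : Ideal W.CoordinateRing) [P.IsPrime] :
    IsRegularLocalRing (Localization.AtPrime P) := by
  haveI hnp : (P.comap (AdjoinRoot.mk W.polynomial)).IsPrime :=
    Ideal.comap_isPrime _ _
  haveI hR1 : IsRegularRing R := inferInstance
  haveI hR2 : IsRegularRing R[X] := Polynomial.isRegularRing_of_isRegularRing R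
  haveI hR3 : IsRegularRing R[X][X] := Polynomial.isRegularRing_of_isRegularRing R[X]
  have hreg : IsRegularLocalRing (Localization.AtPrime (P.comap (AdjoinRoot.mk W.polynomial))) :=
    IsRegularRing.isRegularLocalRing_localization _
  refine @regular_quotient_atPrime' R[X][X] _ inferInstance W.polynomial
    (Ideal.span {W.polynomial}) rfl P ‹P.IsPrime›
    (P.comap (AdjoinRoot.mk W.polynomial)) hnp rfl hreg ?_
  clear hreg
  generalize hn : P.comap (AdjoinRoot.mk W.polynomial) = n at hnp
  intro s hs hsf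
  have hfn : W.polynomial ∈ n := by
    rw [← hn, Ideal.mem_comap, AdjoinRoot.mk_self]
    exact P.zero_mem
  have hY : W.polynomialY ∈ n := by
    rw [← dY_polynomial]
    exact derivation_mem_of_mul_mem_sq (dY R) n _ s hfn hs hsf
  have hX : W.polynomialX ∈ n := by
    rw [← dX_polynomial]
    exact derivation_mem_of_mul_mem_sq (dX R) n _ s hfn hs hsf
  have hΔn : C (C W.Δ) ∈ n := Δ_mem W n hfn hX hY
  -- the maximal ideal of `R` maps into `n`
  have hm : ∀ r ∈ maximalIdeal R, C (C r) ∈ n := by
    have hp : (n.comap (C.comp C : R →+* R[X][X])).IsPrime := Ideal.comap_isPrime _ _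
    have hne : n.comap (C.comp C : R →+* R[X][X]) ≠ ⊥ := by
      intro h
      have : W.Δ ∈ n.comap (C.comp C : R →+* R[X][X]) := hΔn
      rw [h] at this
      exact hΔ this
    have hmax : (n.comap (C.comp C : R →+* R[X][X])).IsMaximal :=
      Ring.DimensionLEOne.maximalOfPrime hne hp
    have := IsLocalRing.eq_maximalIdeal hmax
    intro r hr
    rw [← this] at hr
    exact hr
  have hCX : (C X : R[X][X]) ∈ n := by
    apply Ideal.IsPrime.mem_of_pow_mem inferInstance 3
    rw [x_cube_identity W]
    refine n.add_mem (n.sub_mem (n.add_mem (n.add_mem (n.sub_mem ?_ ?_) ?_) ?_) ?_) ?_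
    · exact n.neg_mem (n.mul_mem_left _ hX)
    · exact n.mul_mem_left _ hY
    · exact n.mul_mem_left _ hfn
    · exact n.mul_mem_right _ (hm _ h4)
    · exact n.mul_mem_right _ (hm _ h3)
    · exact n.mul_mem_left _ (hm _ h6)
  have hYn : (X : R[X][X]) ∈ n := by
    apply Ideal.IsPrime.mem_of_pow_mem inferInstance 2
    rw [y_sq_identity W]
    refine n.add_mem (n.add_mem (n.add_mem (n.add_mem (n.sub_mem (n.sub_mem hfn ?_) ?_) ?_) ?_) ?_)
      ?_
    · exact n.mul_mem_right _ (n.mul_mem_left _ hCX)
    · exact n.mul_mem_right _ (hm _ h3)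
    · exact n.pow_mem_of_mem hCX 3 (by norm_num)
    · exact n.mul_mem_left _ (n.pow_mem_of_mem hCX 2 (by norm_num))
    · exact n.mul_mem_left _ hCX
    · exact hm _ h6
  have hspan : Ideal.span ({C X, X} : Set R[X][X]) ≤ n := by
    rw [Ideal.span_le]
    intro t ht
    rcases ht with rfl | rfl
    · exact hCX
    · exact hYn
  -- membership in `n` is detected by evaluation at the origin
  have hev : ∀ t : R[X][X], t ∈ n ↔ t.evalEval 0 0 ∈ maximalIdeal R := by
    intro t
    have h1 := hspan (sub_evalEval_mem t)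
    constructor
    · intro ht
      by_contra hnot
      have hu : IsUnit (t.evalEval 0 0) := by
        by_contra hnu
        exact hnot ((IsLocalRing.mem_maximalIdeal _).2 hnu)
      have h2 : C (C (t.evalEval 0 0)) ∈ n := by
        have := n.sub_mem ht h1
        simpa using this
      have h3 : IsUnit (C (C (t.evalEval 0 0)) : R[X][X]) := (hu.map C).map C
      exact (Ideal.IsPrime.ne_top inferInstance) (Ideal.eq_top_of_isUnit_mem n h2 h3)
    · intro ht
      have h2 := hm _ ht
      have := n.add_mem h1 h2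
      simpa using this
  have hle : Ideal.map (evalEvalRingHom (0 : R) 0) n ≤ maximalIdeal R := by
    rw [Ideal.map_le_iff_le_comap]
    intro t ht
    rw [Ideal.mem_comap, coe_evalEvalRingHom]
    exact (hev t).1 ht
  have h7 : (s * W.polynomial).evalEval 0 0 ∈ maximalIdeal R ^ 2 := by
    have h8 := Ideal.mem_map_of_mem (evalEvalRingHom (0 : R) 0) hsf
    rw [Ideal.map_pow] at h8
    exact Ideal.pow_right_mono hle 2 h8
  have hsu : IsUnit (s.evalEval 0 0) := by
    by_contra hnu
    exact hs ((hev s).2 ((IsLocalRing.mem_maximalIdeal _).2 hnu))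
  have h9 : (s * W.polynomial).evalEval 0 0 = s.evalEval 0 0 * (-W.a₆) := by
    rw [← WeierstrassCurve.Affine.evalEval_polynomial_zero, ← coe_evalEvalRingHom, map_mul]
  rw [h9] at h7
  obtain ⟨u, hu⟩ := hsu
  apply h6'
  have h10 : W.a₆ = -(↑u⁻¹ * (s.evalEval 0 0 * (-W.a₆))) := by
    rw [← hu]
    simp
  rw [h10]
  exact Ideal.neg_mem_iff _ |>.2 (Ideal.mul_mem_left _ _ h7)

end Groth.Agent.Lib.Helper6.WReg
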